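import Mathlib.AlgebraicGeometry.Morphisms.Separated
import Mathlib.CategoryTheory.Monoidal.Cartesian.Grp
import Mathlib.CategoryTheory.Monoidal.Cartesian.Over
import Mathlib.RingTheory.Ideal.Quotient.Operations
import Groth.Prelude.Def_Red

/-!
Points congruent modulo a square-zero ideal of the base.
-/

set_option backward.isDefEq.respectTransparency false

universe u

open CategoryTheory CategoryTheory.Limits MonoidalCategory CartesianMonoidalCategory MonObj AlgebraicGeometry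

namespace GrothLib.SquareZeroPts

/-- Triples congruent modulo an ideal. -/
def triples {C : Type u} [CommRing C] (I : Ideal C) : Subring (C × C × C) where
  carrier := {x | x.1 - x.2.1 ∈ I ∧ x.2.1 - x.2.2 ∈ I}
  mul_mem' := fun {x y} hx hy => by
    refine ⟨?_, ?_⟩
    · have e : x.1 * y.1 - x.2.1 * y.2.1 = x.1 * (y.1 - y.2.1) + y.2.1 * (x.1 - x.2.1) := by ring
      show x.1 * y.1 - x.2.1 * y.2.1 ∈ I
      rw [e]
      exact I.add_mem (I.mul_mem_left _ hy.1) (I.mul_mem_left _ hx.1)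
    · have e : x.2.1 * y.2.1 - x.2.2 * y.2.2 = x.2.1 * (y.2.1 - y.2.2) + y.2.2 * (x.2.1 - x.2.2) := by ring
      show x.2.1 * y.2.1 - x.2.2 * y.2.2 ∈ I
      rw [e]
      exact I.add_mem (I.mul_mem_left _ hy.2) (I.mul_mem_left _ hx.2)
  one_mem' := by simp
  add_mem' := fun {x y} hx hy => ⟨by simpa [add_sub_add_comm] using I.add_mem hx.1 hy.1,
    by simpa [add_sub_add_comm] using I.add_mem hx.2 hy.2⟩
  zero_mem' := by simp
  neg_mem' := fun {x} hx => ⟨by simpa [neg_sub_neg, sub_eq_add_neg, add_comm] using I.neg_mem hx.1,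
    by simpa [neg_sub_neg, sub_eq_add_neg, add_comm] using I.neg_mem hx.2⟩

variable {C : Type u} [CommRing C] {I : Ideal C}

def pr₁ : triples I →+* C := (RingHom.fst C (C × C)).comp (triples I).subtype
def pr₂ : triples I →+* C := ((RingHom.fst C C).comp (RingHom.snd C (C × C))).comp (triples I).subtype
def pr₃ : triples I →+* C := ((RingHom.snd C C).comp (RingHom.snd C (C × C))).comp (triples I).subtype

/-- The ring homomorphism `(a, b, c) ↦ a + b - c`. -/
def alt (hI : I * I = ⊥) : triples I →+* C where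
  toFun x := x.1.1 + x.1.2.1 - x.1.2.2
  map_one' := by simp
  map_mul' x y := by
    obtain ⟨⟨a, b, c⟩, hab, hbc⟩ := x
    obtain ⟨⟨a', b', c'⟩, hab', hbc'⟩ := y
    show a * a' + b * b' - c * c' = (a + b - c) * (a' + b' - c')
    have h : ∀ p ∈ I, ∀ q ∈ I, p * q = 0 := fun p hp q hq => by
      simpa [hI] using Ideal.mul_mem_mul hp hq
    have h1 : (a - c) * (b' - c') = 0 := h _ (by simpa using I.add_mem hab hbc) _ hbc'
    have h2 : (a' - c') * (b - c) = 0 := h _ (by simpa using I.add_mem hab' hbc') _ hbc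
    linear_combination -h1 - h2
  map_zero' := by simp
  map_add' x y := by
    show (x.1.1 + y.1.1) + (x.1.2.1 + y.1.2.1) - (x.1.2.2 + y.1.2.2) = _
    ring

theorem surjective_pr₁ (hI : I * I = ⊥) :
    Function.Surjective (Spec.map (CommRingCat.ofHom (pr₁ (I := I)))) := by
  intro P
  haveI : P.asIdeal.IsPrime := P.2
  have hker : RingHom.ker (pr₁ (I := I)) ≤ P.asIdeal := fun x hx => by
    have h1 : x.1.1 = 0 := hx
    have hxx : x * x = 0 := by
      have hI' : ∀ p ∈ I, ∀ q ∈ I, p * q = 0 := fun p hp q hq => by simpa [hI] using Ideal.mul_mem_mul hp hq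
      have h2 : x.1.2.1 ∈ I := by simpa [h1] using I.neg_mem x.2.1
      have h3 : x.1.2.2 ∈ I := by simpa using I.sub_mem h2 x.2.2
      exact Subtype.ext (Prod.ext (show x.1.1 * x.1.1 = 0 by rw [h1, mul_zero])
        (Prod.ext (hI' _ h2 _ h2) (hI' _ h3 _ h3)))
    exact (P.2.mem_or_mem (show x * x ∈ P.asIdeal from hxx ▸ P.asIdeal.zero_mem)).elim id id
  have hs : Function.Surjective (pr₁ (I := I)) := fun c => ⟨⟨(c, c, c), by simp, by simp⟩, rfl⟩
  refine ⟨⟨P.asIdeal.map (pr₁ (I := I)), Ideal.map_isPrime_of_surjective hs hker⟩, PrimeSpectrum.ext ?_⟩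
  show Ideal.comap (pr₁ (I := I)) (Ideal.map (pr₁ (I := I)) P.asIdeal) = P.asIdeal
  rw [Ideal.comap_map_of_surjective' _ hs, sup_eq_left]
  exact hker

/-- Morphisms from the spectrum of triples agree when their components do. -/
theorem ext_triples (hI : I * I = ⊥) {Z : Scheme.{u}} {U : Z.Opens} (hU : IsAffineOpen U)
    {f₁ f₂ : Spec (CommRingCat.of (triples I)) ⟶ Z}
    (hr : Set.range (Spec.map (CommRingCat.ofHom pr₁) ≫ f₁) ⊆ U)
    (h₁ : Spec.map (CommRingCat.ofHom pr₁) ≫ f₁ = Spec.map (CommRingCat.ofHom pr₁) ≫ f₂)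
    (h₂ : Spec.map (CommRingCat.ofHom pr₂) ≫ f₁ = Spec.map (CommRingCat.ofHom pr₂) ≫ f₂)
    (h₃ : Spec.map (CommRingCat.ofHom pr₃) ≫ f₁ = Spec.map (CommRingCat.ofHom pr₃) ≫ f₂) : f₁ = f₂ := by
  have hr₁ : Set.range f₁ ⊆ Set.range U.ι := by
    rintro _ ⟨z, rfl⟩
    obtain ⟨w, rfl⟩ := surjective_pr₁ hI z
    rw [Scheme.Opens.range_ι]
    exact hr ⟨w, rfl⟩
  have hr₂ : Set.range f₂ ⊆ Set.range U.ι := by
    rintro _ ⟨z, rfl⟩
    obtain ⟨w, rfl⟩ := surjective_pr₁ hI z
    rw [Scheme.Opens.range_ι]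
    exact hr ⟨w, congrArg (fun k : Spec (CommRingCat.of C) ⟶ Z => k w) h₁⟩
  rw [← IsOpenImmersion.lift_fac U.ι f₁ hr₁, ← IsOpenImmersion.lift_fac U.ι f₂ hr₂]
  congr 1
  rw [← cancel_mono hU.isoSpec.hom]
  rw [← Spec.map_preimage (IsOpenImmersion.lift U.ι f₁ hr₁ ≫ hU.isoSpec.hom),
    ← Spec.map_preimage (IsOpenImmersion.lift U.ι f₂ hr₂ ≫ hU.isoSpec.hom)]
  congr 1
  have key : ∀ (p : triples I →+* C), Spec.map (CommRingCat.ofHom p) ≫ f₁ = Spec.map (CommRingCat.ofHom p) ≫ f₂ →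
      Spec.preimage (IsOpenImmersion.lift U.ι f₁ hr₁ ≫ hU.isoSpec.hom) ≫ CommRingCat.ofHom p =
        Spec.preimage (IsOpenImmersion.lift U.ι f₂ hr₂ ≫ hU.isoSpec.hom) ≫ CommRingCat.ofHom p := fun p hp => by
    apply Spec.map_injective
    rw [Spec.map_comp, Spec.map_comp, Spec.map_preimage, Spec.map_preimage, ← Category.assoc, ← Category.assoc,
      cancel_mono, ← cancel_mono U.ι, Category.assoc, Category.assoc, IsOpenImmersion.lift_fac,
      IsOpenImmersion.lift_fac, hp]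
  apply CommRingCat.hom_ext
  refine RingHom.ext fun b => Subtype.ext (Prod.ext ?_ (Prod.ext ?_ ?_))
  · exact congrArg (fun k : Γ(Z, U) ⟶ CommRingCat.of C => k.hom b) (key pr₁ h₁)
  · exact congrArg (fun k : Γ(Z, U) ⟶ CommRingCat.of C => k.hom b) (key pr₂ h₂)
  · exact congrArg (fun k : Γ(Z, U) ⟶ CommRingCat.of C => k.hom b) (key pr₃ h₃)

variable {R : Type u} [CommRing R] {J : Ideal R}

local notation "kk" J => Spec.map (CommRingCat.ofHom (Ideal.Quotient.mk J))

/-- Reduction-equal morphisms agree on schemes killed by the ideal. -/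
theorem comp_eq_of_kills {X Y : Over (Spec (CommRingCat.of R))} {f g : Y ⟶ X}
    (h : (Over.pullback (kk J)).map f = (Over.pullback (kk J)).map g)
    {B : Type u} [CommRing B] (ψ : R →+* B) (hψ : ∀ r ∈ J, ψ r = 0)
    (j : Spec (CommRingCat.of B) ⟶ Y.left) (hj : j ≫ Y.hom = Spec.map (CommRingCat.ofHom ψ)) :
    j ≫ f.left = j ≫ g.left := by
  have hw : j ≫ Y.hom = Spec.map (CommRingCat.ofHom (Ideal.Quotient.lift J ψ hψ)) ≫ kk J := by
    rw [hj, ← Spec.map_comp, ← CommRingCat.ofHom_comp]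
    exact congrArg (fun k => Spec.map (CommRingCat.ofHom k)) (RingHom.ext fun r => rfl)
  have hf : ∀ f : Y ⟶ X, pullback.lift j (Spec.map (CommRingCat.ofHom (Ideal.Quotient.lift J ψ hψ))) hw ≫
      ((Over.pullback (kk J)).map f).left ≫ pullback.fst X.hom (kk J) = j ≫ f.left := fun f => by
    rw [show ((Over.pullback (kk J)).map f).left ≫ pullback.fst X.hom (kk J) = pullback.fst Y.hom (kk J) ≫ f.left from
      pullback.lift_fst _ _ _, pullback.lift_fst_assoc]
  rw [← hf f, ← hf g, h]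

/-- Reduction-equal morphisms agree on underlying points. -/
theorem base_eq (hJ : J * J = ⊥) {X Y : Over (Spec (CommRingCat.of R))} {f g : Y ⟶ X}
    (h : (Over.pullback (kk J)).map f = (Over.pullback (kk J)).map g) (y : Y.left) : f.left y = g.left y := by
  let ψ := (Spec.preimage (Y.left.fromSpecResidueField y ≫ Y.hom)).hom
  have hψ : ∀ r ∈ J, ψ r = 0 := fun r hr => by
    have h0 : r * r = 0 := by simpa [hJ] using Ideal.mul_mem_mul hr hr
    exact mul_self_eq_zero.mp (by rw [← map_mul, h0, map_zero])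
  have e := comp_eq_of_kills h ψ hψ (Y.left.fromSpecResidueField y) (Spec.map_preimage _).symm
  have := congrArg (fun k : Spec (Y.left.residueField y) ⟶ X.left => k (IsLocalRing.closedPoint _)) e
  simp only [Scheme.Hom.comp_apply, Scheme.fromSpecResidueField_apply] at this
  exact this

section grp

variable {X : Over (Spec (CommRingCat.of R))} [GrpObj X]

theorem commute_affine (ψ : R →+* C) (hI : I * I = ⊥) {U : X.left.Opens} (hU : IsAffineOpen U)
    (a b : Over.mk (Spec.map (CommRingCat.ofHom ψ)) ⟶ X)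
    (hr : Set.range (1 : Over.mk (Spec.map (CommRingCat.ofHom ψ)) ⟶ X).left ⊆ U)
    (ha : Spec.map (CommRingCat.ofHom (Ideal.Quotient.mk I)) ≫ a.left =
      Spec.map (CommRingCat.ofHom (Ideal.Quotient.mk I)) ≫ (1 : Over.mk (Spec.map (CommRingCat.ofHom ψ)) ⟶ X).left)
    (hb : Spec.map (CommRingCat.ofHom (Ideal.Quotient.mk I)) ≫ b.left =
      Spec.map (CommRingCat.ofHom (Ideal.Quotient.mk I)) ≫ (1 : Over.mk (Spec.map (CommRingCat.ofHom ψ)) ⟶ X).left) :
    a * b = b * a := by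
  let T : Over (Spec (CommRingCat.of R)) := Over.mk (Spec.map (CommRingCat.ofHom ψ))
  have hsurj : Function.Surjective (Spec.map (CommRingCat.ofHom (Ideal.Quotient.mk I))) := fun P => by
    haveI : P.asIdeal.IsPrime := P.2
    have hle : I ≤ P.asIdeal := fun x hx => by
      have h0 : x * x = 0 := by simpa [hI] using Ideal.mul_mem_mul hx hx
      exact (P.2.mem_or_mem (show x * x ∈ P.asIdeal from h0 ▸ P.asIdeal.zero_mem)).elim id id
    refine ⟨⟨P.asIdeal.map (Ideal.Quotient.mk I),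
      Ideal.map_isPrime_of_surjective Ideal.Quotient.mk_surjective (by rwa [Ideal.mk_ker])⟩, PrimeSpectrum.ext ?_⟩
    show Ideal.comap (Ideal.Quotient.mk I) (Ideal.map (Ideal.Quotient.mk I) P.asIdeal) = P.asIdeal
    rw [Ideal.comap_map_of_surjective' _ Ideal.Quotient.mk_surjective, Ideal.mk_ker, sup_eq_left]
    exact hle
  have hrange : ∀ c : T ⟶ X, Spec.map (CommRingCat.ofHom (Ideal.Quotient.mk I)) ≫ c.left =
      Spec.map (CommRingCat.ofHom (Ideal.Quotient.mk I)) ≫ (1 : T ⟶ X).left → Set.range c.left ⊆ Set.range U.ι := by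
    rintro c hc _ ⟨z, rfl⟩
    obtain ⟨w, rfl⟩ := hsurj z
    rw [Scheme.Opens.range_ι]
    exact (congrArg (fun k : Spec (CommRingCat.of (C ⧸ I)) ⟶ X.left => k w) hc).symm ▸ hr ⟨_, rfl⟩
  let α : ∀ (c : T ⟶ X) (_ : Set.range c.left ⊆ Set.range U.ι), Γ(X.left, U) ⟶ CommRingCat.of C := fun c hc =>
    Spec.preimage (IsOpenImmersion.lift U.ι c.left hc ≫ hU.isoSpec.hom)
  have hα : ∀ c hc, Spec.map (α c hc) ≫ hU.isoSpec.inv ≫ U.ι = c.left := fun c hc => by
    simp only [α, Spec.map_preimage, Category.assoc, Iso.hom_inv_id_assoc, IsOpenImmersion.lift_fac]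
  have h1r : Set.range (1 : T ⟶ X).left ⊆ Set.range U.ι := by rw [Scheme.Opens.range_ι]; exact hr
  have hcong : ∀ c hc, Spec.map (CommRingCat.ofHom (Ideal.Quotient.mk I)) ≫ c.left =
      Spec.map (CommRingCat.ofHom (Ideal.Quotient.mk I)) ≫ (1 : T ⟶ X).left →
      ∀ x, (α c hc).hom x - (α 1 h1r).hom x ∈ I := fun c hc h x => by
    rw [← Ideal.Quotient.eq_zero_iff_mem, map_sub, sub_eq_zero]
    refine congrArg (fun k : Γ(X.left, U) ⟶ CommRingCat.of (C ⧸ I) => k.hom x)
      (show α c hc ≫ CommRingCat.ofHom (Ideal.Quotient.mk I) = α 1 h1r ≫ CommRingCat.ofHom (Ideal.Quotient.mk I) from ?_)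
    apply Spec.map_injective
    rw [← cancel_mono (hU.isoSpec.inv ≫ U.ι), Spec.map_comp, Spec.map_comp, Category.assoc, Category.assoc, hα, hα]
    exact h
  let ψ₃ : R →+* triples I :=
    { toFun := fun r => ⟨(ψ r, ψ r, ψ r), by simp, by simp⟩
      map_one' := Subtype.ext (by simp)
      map_mul' := fun x y => Subtype.ext (by simp)
      map_zero' := Subtype.ext (by simp)
      map_add' := fun x y => Subtype.ext (by simp) }
  let T₃ : Over (Spec (CommRingCat.of R)) := Over.mk (Spec.map (CommRingCat.ofHom ψ₃))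
  let q₁ : T ⟶ T₃ := Over.homMk (Spec.map (CommRingCat.ofHom pr₁)) (by
    change Spec.map _ ≫ Spec.map _ = Spec.map _
    rw [← Spec.map_comp]; rfl)
  let q₂ : T ⟶ T₃ := Over.homMk (Spec.map (CommRingCat.ofHom pr₂)) (by
    change Spec.map _ ≫ Spec.map _ = Spec.map _
    rw [← Spec.map_comp]; rfl)
  let q₃ : T ⟶ T₃ := Over.homMk (Spec.map (CommRingCat.ofHom pr₃)) (by
    change Spec.map _ ≫ Spec.map _ = Spec.map _
    rw [← Spec.map_comp]; rfl)
  let s : T ⟶ T₃ := Over.homMk (Spec.map (CommRingCat.ofHom (alt hI))) (by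
    change Spec.map _ ≫ Spec.map _ = Spec.map _
    rw [← Spec.map_comp, ← CommRingCat.ofHom_comp]
    exact congrArg (fun k => Spec.map (CommRingCat.ofHom k)) (RingHom.ext fun r => add_sub_cancel_right _ _))
  have hex : ∀ (u v w : Γ(X.left, U) ⟶ CommRingCat.of C) (cu cv cw : T ⟶ X),
      Spec.map u ≫ hU.isoSpec.inv ≫ U.ι = cu.left → Spec.map v ≫ hU.isoSpec.inv ≫ U.ι = cv.left →
      Spec.map w ≫ hU.isoSpec.inv ≫ U.ι = cw.left → (∀ x, u.hom x - v.hom x ∈ I) → (∀ x, v.hom x - w.hom x ∈ I) →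
      ∃ P : T₃ ⟶ X, q₁ ≫ P = cu ∧ q₂ ≫ P = cv ∧ q₃ ≫ P = cw ∧
        ∀ x : T ⟶ X, (∀ z, u.hom z + v.hom z - w.hom z = (Spec.preimage (Spec.map u)).hom z) → x = cu → s ≫ P = x := by
    intro u v w cu cv cw hu hv hw huv hvw
    let t : Γ(X.left, U) ⟶ CommRingCat.of (triples I) := CommRingCat.ofHom
      ((RingHom.prod u.hom (RingHom.prod v.hom w.hom)).codRestrict (triples I) fun x => ⟨huv x, hvw x⟩)
    let l : Spec (CommRingCat.of (triples I)) ⟶ X.left := Spec.map t ≫ hU.isoSpec.inv ≫ U.ι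
    have l₁ : Spec.map (CommRingCat.ofHom pr₁) ≫ l = cu.left := by
      rw [← hu, ← Category.assoc, ← Spec.map_comp]; rfl
    have l₂ : Spec.map (CommRingCat.ofHom pr₂) ≫ l = cv.left := by
      rw [← hv, ← Category.assoc, ← Spec.map_comp]; rfl
    have l₃ : Spec.map (CommRingCat.ofHom pr₃) ≫ l = cw.left := by
      rw [← hw, ← Category.assoc, ← Spec.map_comp]; rfl
    have hl : l ≫ X.hom = T₃.hom :=
      ext_triples hI (isAffineOpen_top _) (Set.subset_univ _)
        (by rw [reassoc_of% l₁]; exact (Over.w cu).trans (Over.w q₁).symm)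
        (by rw [reassoc_of% l₂]; exact (Over.w cv).trans (Over.w q₂).symm)
        (by rw [reassoc_of% l₃]; exact (Over.w cw).trans (Over.w q₃).symm)
    refine ⟨Over.homMk l hl, Over.OverMorphism.ext l₁, Over.OverMorphism.ext l₂, Over.OverMorphism.ext l₃,
      fun x hx hxu => Over.OverMorphism.ext ?_⟩
    show Spec.map (CommRingCat.ofHom (alt hI)) ≫ l = x.left
    rw [hxu, ← hu, ← Category.assoc, ← Spec.map_comp]
    refine congrArg (fun k => Spec.map k ≫ hU.isoSpec.inv ≫ U.ι) (CommRingCat.hom_ext (RingHom.ext fun z => ?_))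
    exact (hx z).trans (congrArg (fun k : Γ(X.left, U) ⟶ CommRingCat.of C => k.hom z) (Spec.preimage_map u))
  have hneg : ∀ {x y : C}, x - y ∈ I → y - x ∈ I := fun {x y} h => by simpa using I.neg_mem h
  have ha' := hcong a (hrange a ha) ha
  have hb' := hcong b (hrange b hb) hb
  obtain ⟨P, hP₁, hP₂, hP₃, hPs⟩ := hex _ (α 1 h1r) (α 1 h1r) a 1 1 (hα a (hrange a ha)) (hα 1 h1r) (hα 1 h1r) ha'
    (fun x => by simp)
  obtain ⟨Q, hQ₁, hQ₂, hQ₃, -⟩ := hex (α 1 h1r) (α b (hrange b hb)) (α 1 h1r) 1 b 1 (hα 1 h1r) (hα b (hrange b hb))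
    (hα 1 h1r) (fun x => hneg (hb' x)) hb'
  have hsP : s ≫ P = a := hPs a (fun z => by simp [Spec.preimage_map]) rfl
  have hsQ : s ≫ Q = b := by
    obtain ⟨Q', h₁, h₂, h₃, h⟩ := hex (α b (hrange b hb)) (α 1 h1r) (α 1 h1r) b 1 1 (hα b (hrange b hb)) (hα 1 h1r)
      (hα 1 h1r) hb' (fun x => by simp)
    have h' := h b (fun z => by simp [Spec.preimage_map]) rfl
    rw [← h']
    apply Over.OverMorphism.ext
    show Spec.map (CommRingCat.ofHom (alt hI)) ≫ Q.left = Spec.map (CommRingCat.ofHom (alt hI)) ≫ Q'.left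
    let σ : triples I →+* triples I :=
      { toFun := fun x => ⟨(x.1.2.1, x.1.1, x.1.2.2), hneg x.2.1, by simpa using I.add_mem x.2.1 x.2.2⟩
        map_one' := rfl
        map_mul' := fun _ _ => rfl
        map_zero' := rfl
        map_add' := fun _ _ => rfl }
    have hQQ : Q.left = Spec.map (CommRingCat.ofHom σ) ≫ Q'.left := by
      refine ext_triples hI hU ?_ ?_ ?_ ?_
      · rw [show Spec.map (CommRingCat.ofHom pr₁) ≫ Q.left = (1 : T ⟶ X).left from congrArg (fun t => t.left) hQ₁]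
        exact hr
      · rw [← Category.assoc, ← Spec.map_comp]
        exact (congrArg (fun t => t.left) hQ₁).trans (congrArg (fun t => t.left) h₂).symm
      · rw [← Category.assoc, ← Spec.map_comp]
        exact (congrArg (fun t => t.left) hQ₂).trans (congrArg (fun t => t.left) h₁).symm
      · rw [← Category.assoc, ← Spec.map_comp]
        exact (congrArg (fun t => t.left) hQ₃).trans (congrArg (fun t => t.left) h₃).symm
    rw [hQQ, ← Category.assoc, ← Spec.map_comp, ← CommRingCat.ofHom_comp]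
    refine congrArg (fun k => Spec.map (CommRingCat.ofHom k) ≫ Q'.left) (RingHom.ext fun x => ?_)
    show x.1.2.1 + x.1.1 - x.1.2.2 = x.1.1 + x.1.2.1 - x.1.2.2
    ring
  have hcomm : P * Q = Q * P := by
    apply Over.OverMorphism.ext
    refine ext_triples hI hU ?_ ?_ ?_ ?_
    · rw [show Spec.map (CommRingCat.ofHom pr₁) ≫ (P * Q).left = a.left from by
        rw [← show (q₁ ≫ (P * Q)).left = Spec.map (CommRingCat.ofHom pr₁) ≫ (P * Q).left from rfl,
          MonObj.comp_mul, hP₁, hQ₁, _root_.mul_one]]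
      exact (hrange a ha).trans (by rw [Scheme.Opens.range_ι])
    · exact congrArg (fun t => t.left) (show q₁ ≫ (P * Q) = q₁ ≫ (Q * P) by
        simp [MonObj.comp_mul, hP₁, hQ₁])
    · exact congrArg (fun t => t.left) (show q₂ ≫ (P * Q) = q₂ ≫ (Q * P) by
        simp [MonObj.comp_mul, hP₂, hQ₂])
    · exact congrArg (fun t => t.left) (show q₃ ≫ (P * Q) = q₃ ≫ (Q * P) by
        simp [MonObj.comp_mul, hP₃, hQ₃])
  rw [← hsP, ← hsQ, ← MonObj.comp_mul, ← MonObj.comp_mul, hcomm]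

/-- The kernel of reduction modulo a square-zero ideal is commutative. -/
theorem commute_of_map_eq_one (hJ : J * J = ⊥) {Y : Over (Spec (CommRingCat.of R))} (g g' : Y ⟶ X)
    (hg : (Over.pullback (kk J)).map g = 1) (hg' : (Over.pullback (kk J)).map g' = 1) : g * g' = g' * g := by
  have h1 : (Over.pullback (kk J)).map (1 : Y ⟶ X) = 1 := Functor.map_one _
  apply Over.OverMorphism.ext
  let e := (1 : Y ⟶ X).left
  have hex : ∀ y : Y.left, ∃ (V : Y.left.Opens) (U : X.left.Opens), y ∈ V ∧ IsAffineOpen V ∧ IsAffineOpen U ∧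
      V ≤ e ⁻¹ᵁ U := fun y => by
    obtain ⟨U, hU, hyU, -⟩ := exists_isAffineOpen_mem_and_subset (show e y ∈ (⊤ : X.left.Opens) from trivial)
    obtain ⟨V, hV, hyV, hVU⟩ := exists_isAffineOpen_mem_and_subset (show y ∈ e ⁻¹ᵁ U from hyU)
    exact ⟨V, U, hyV, hV, hU, hVU⟩
  choose V U hyV hV hU hVU using hex
  refine Scheme.Cover.hom_ext (Y.left.openCoverOfIsOpenCover V (TopologicalSpace.IsOpenCover.mk
    (top_le_iff.mp fun y _ => TopologicalSpace.Opens.mem_iSup.mpr ⟨y, hyV y⟩))) _ _ fun y => ?_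
  change (V y).ι ≫ (g * g').left = (V y).ι ≫ (g' * g).left
  let C : Type u := Γ(Y.left, V y)
  let ψ : R →+* C := (Spec.preimage ((hV y).fromSpec ≫ Y.hom)).hom
  let t : Over.mk (Spec.map (CommRingCat.ofHom ψ)) ⟶ Y := Over.homMk (hV y).fromSpec (Spec.map_preimage _).symm
  rw [← cancel_epi (hV y).isoSpec.inv, ← Category.assoc, ← Category.assoc, (hV y).isoSpec_inv_ι]
  change (t ≫ (g * g')).left = (t ≫ (g' * g)).left
  rw [MonObj.comp_mul, MonObj.comp_mul]
  let I : Ideal C := J.map ψ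
  have hI : I * I = ⊥ := by rw [← Ideal.map_mul, hJ, Ideal.map_bot]
  have key : ∀ c : Y ⟶ X, (Over.pullback (kk J)).map c = 1 →
      Spec.map (CommRingCat.ofHom (Ideal.Quotient.mk I)) ≫ (t ≫ c).left =
        Spec.map (CommRingCat.ofHom (Ideal.Quotient.mk I)) ≫
          (1 : Over.mk (Spec.map (CommRingCat.ofHom ψ)) ⟶ X).left := fun c hc => by
    rw [← MonObj.comp_one t, Over.comp_left, Over.comp_left, ← Category.assoc, ← Category.assoc]
    refine comp_eq_of_kills (hc.trans h1.symm) ((Ideal.Quotient.mk I).comp ψ) (fun r hr => ?_) _ ?_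
    · exact Ideal.Quotient.eq_zero_iff_mem.mpr (Ideal.mem_map_of_mem ψ hr)
    · rw [Category.assoc]
      show _ ≫ (hV y).fromSpec ≫ Y.hom = _
      rw [← Spec.map_preimage ((hV y).fromSpec ≫ Y.hom), ← Spec.map_comp]
      rfl
  exact congrArg (fun k => k.left) (commute_affine ψ hI (hU y) _ _ (by
    rw [← MonObj.comp_one t]
    rintro _ ⟨z, rfl⟩
    refine hVU y ?_
    rw [← SetLike.mem_coe, ← (hV y).range_fromSpec]
    exact ⟨z, rfl⟩) (key g hg) (key g' hg'))

/-- An endomorphism which is the identity modulo a square-zero ideal is an automorphism. -/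
theorem isIso_of_map_eq_id (hJ : J * J = ⊥) {X : Over (Spec (CommRingCat.of R))} (u : X ⟶ X)
    (h : (Over.pullback (kk J)).map u = 𝟙 _) : IsIso u := by
  have h' : (Over.pullback (kk J)).map u = (Over.pullback (kk J)).map (𝟙 X) :=
    h.trans ((Over.pullback (kk J)).map_id X).symm
  have hbase : ∀ U : X.left.Opens, u.left ⁻¹ᵁ U = U := fun U => TopologicalSpace.Opens.ext (Set.ext fun y => by
    show u.left y ∈ U ↔ y ∈ U
    rw [base_eq hJ h' y]
    rfl)
  suffices IsIso u.left by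
    haveI : IsIso ((Over.forget _).map u) := this
    exact isIso_of_reflects_iso u (Over.forget _)
  have hcov : iSup (fun U : X.left.affineOpens => U.1) = ⊤ := iSup_affineOpens_eq_top _
  refine IsZariskiLocalAtTarget.of_iSup_eq_top (P := MorphismProperty.isomorphisms Scheme) _ hcov fun U => ?_
  show IsIso (u.left ∣_ U.1)
  haveI : IsAffine (U.1 : Scheme.{u}) := U.2
  let C : Type u := Γ(X.left, U.1)
  let φ : C →+* C := (u.left.appLE U.1 U.1 (hbase U.1).ge).hom
  let ψ : R →+* C := (Spec.preimage (U.2.fromSpec ≫ X.hom)).hom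
  let I : Ideal C := J.map ψ
  have hI : I * I = ⊥ := by rw [← Ideal.map_mul, hJ, Ideal.map_bot]
  have hφ : ∀ b, φ b - b ∈ I := fun b => by
    have e := comp_eq_of_kills h' ((Ideal.Quotient.mk I).comp ψ) (fun r hr => Ideal.Quotient.eq_zero_iff_mem.mpr
      (Ideal.mem_map_of_mem ψ hr)) (Spec.map (CommRingCat.ofHom (Ideal.Quotient.mk I)) ≫ U.2.fromSpec) (by
        rw [Category.assoc, ← Spec.map_preimage (U.2.fromSpec ≫ X.hom), ← Spec.map_comp]
        rfl)
    rw [Category.assoc, ← U.2.SpecMap_appLE_fromSpec u.left U.2 (hbase U.1).ge, Category.assoc, Over.id_left,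
      Category.comp_id, ← Category.assoc, cancel_mono, ← Spec.map_comp] at e
    rw [← Ideal.Quotient.eq_zero_iff_mem, map_sub, sub_eq_zero]
    exact congrArg (fun k : Γ(X.left, U.1) ⟶ CommRingCat.of (C ⧸ I) => k.hom b) (Spec.map_injective e)
  have hψ : ∀ r, φ (ψ r) = ψ r := fun r => by
    have e : U.2.fromSpec ≫ X.hom = Spec.map (u.left.appLE U.1 U.1 (hbase U.1).ge) ≫ U.2.fromSpec ≫ X.hom := by
      rw [← Category.assoc, U.2.SpecMap_appLE_fromSpec u.left U.2 (hbase U.1).ge, Category.assoc, Over.w u]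
    rw [← Spec.map_preimage (U.2.fromSpec ≫ X.hom), ← Spec.map_comp] at e
    exact (congrArg (fun k : CommRingCat.of R ⟶ Γ(X.left, U.1) => k.hom r) (Spec.map_injective e)).symm
  have hfix : ∀ x ∈ I, φ x = x := fun x hx => by
    refine Submodule.span_induction (p := fun x _ => φ x = x) ?_ (map_zero φ)
      (fun x y _ _ hx hy => by rw [map_add, hx, hy]) (fun a x hxI hx => ?_) hx
    · rintro _ ⟨r, -, rfl⟩
      exact hψ r
    · show φ (a * x) = a * x
      have h0 : (φ a - a) * x = 0 := Ideal.mem_bot.mp (hI ▸ Ideal.mul_mem_mul (hφ a) hxI)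
      rw [map_mul, hx]
      rw [sub_mul, sub_eq_zero] at h0
      exact h0
  have hbij : Function.Bijective φ := by
    refine ⟨(injective_iff_map_eq_zero φ).mpr fun b hb => ?_, fun c => ⟨c - (φ c - c), ?_⟩⟩
    · have hbI : b ∈ I := by
        have := hφ b
        rwa [hb, zero_sub, neg_mem_iff] at this
      rwa [hfix b hbI] at hb
    · rw [map_sub, hfix _ (hφ c)]
      ring
  haveI : IsIso (u.left.appLE U.1 U.1 (hbase U.1).ge) := (ConcreteCategory.isIso_iff_bijective _).mpr hbij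
  have hpre : u.left ⁻¹ᵁ U.1 = U.1 := hbase U.1
  have e : u.left ∣_ U.1 = (X.left.isoOfEq hpre).hom ≫ U.2.isoSpec.hom ≫
      Spec.map (u.left.appLE U.1 U.1 (hbase U.1).ge) ≫ U.2.isoSpec.inv := by
    rw [← cancel_mono U.1.ι]
    simp only [Category.assoc, morphismRestrict_ι, U.2.isoSpec_inv_ι, U.2.SpecMap_appLE_fromSpec u.left U.2 (hbase U.1).ge]
    rw [← Category.assoc U.2.isoSpec.hom, ← U.2.isoSpec_inv_ι, Iso.hom_inv_id_assoc, Scheme.isoOfEq_hom_ι_assoc]
  rw [e]
  infer_instance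

end grp

end GrothLib.SquareZeroPts
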